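import Groth.Agent.L27.FrobeniusLinear
import Groth.Agent.L05.Hensel.Homs
import Mathlib.RingTheory.Smooth.StandardSmoothCotangent
import Mathlib.RingTheory.Henselian
import Mathlib.FieldTheory.Finite.Basic
import Mathlib.LinearAlgebra.Dimension.OrzechProperty
import Mathlib.FieldTheory.IsAlgClosed.AlgebraicClosure
import Mathlib.LinearAlgebra.FreeModule.Finite.Basic
import Mathlib.LinearAlgebra.Matrix.ToLin
import Mathlib.LinearAlgebra.Matrix.NonsingularInverse

/-! Lang's theorem for Frobenius-semilinear maps over strictly henselian rings. -/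

set_option autoImplicit false
set_option linter.style.haveILetI false
universe u v

open MvPolynomial

namespace Groth.L14.FrobMod

open Groth.L27.Frobenius in
theorem card_fixed_algClosed {k : Type u} [Field k] [IsAlgClosed k] (p : ℕ) [Fact p.Prime] [CharP k p] :
    ∀ (n : ℕ) (V : Type u) [AddCommGroup V] [Module k V] [FiniteDimensional k V],
    Module.finrank k V = n → ∀ F : V →+ V, (∀ (c : k) (v : V), F (c • v) = c ^ p • F v) →
    Function.Injective F → Nat.card {v : V // F v = v} = p ^ n := by
  intro n
  induction n using Nat.strong_induction_on with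
  | h n ih =>
    intro V _ _ _ hn F hF hinj
    have hp := (Fact.out : p.Prime)
    rcases subsingleton_or_nontrivial V with h | h
    · have hn0 : n = 0 := by rw [← hn]; exact Module.finrank_zero_of_subsingleton
      rw [hn0, pow_zero]
      exact Nat.card_of_subsingleton ⟨0, map_zero F⟩
    obtain ⟨e, he0, he⟩ := exists_fixed p F hF hinj
    let W : Submodule k V := k ∙ e
    have hWF : ∀ w ∈ W, F w ∈ W := stable p hF (Or.inl ⟨e, he, rfl⟩)
    let G := quot F W hWF
    have hG : Function.Injective G := by
      rw [injective_iff_map_eq_zero]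
      intro z hz
      obtain ⟨v, rfl⟩ := Submodule.Quotient.mk_surjective W z
      rw [quot_mk, Submodule.Quotient.mk_eq_zero] at hz
      obtain ⟨c, hc⟩ := Submodule.mem_span_singleton.mp hz
      obtain ⟨d, hd⟩ := IsAlgClosed.exists_pow_nat_eq c hp.pos
      rw [← hd, show F v = F v from rfl, ← he, ← hF] at hc
      rw [Submodule.Quotient.mk_eq_zero, ← hinj hc]
      exact Submodule.smul_mem _ _ (Submodule.mem_span_singleton_self e)
    have hW1 : Module.finrank k W = 1 := finrank_span_singleton he0
    have hQ : Module.finrank k (V ⧸ W) + 1 = n := by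
      rw [← hW1, W.finrank_quotient_add_finrank, hn]
    have hcard := ih _ (by omega) (V ⧸ W) rfl G (quot_smul p hF W hWF) hG
    let φ : fixed F →+ fixed G :=
      ((QuotientAddGroup.mk' W.toAddSubgroup).comp (fixed F).subtype).codRestrict _ fun x =>
        mem_fixed.mpr ((quot_mk F W hWF x.1).trans (congrArg _ (mem_fixed.mp x.2)))
    have hsurj : Function.Surjective φ := by
      rintro ⟨z, hz⟩
      obtain ⟨v, rfl⟩ := Submodule.Quotient.mk_surjective W z
      have hz' := mem_fixed.mp hz
      rw [quot_mk, Submodule.Quotient.eq] at hz'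
      obtain ⟨c, hc⟩ := Submodule.mem_span_singleton.mp hz'
      obtain ⟨r, hr⟩ := Groth.L27.Frobenius.surjective p (V := k)
        (AddMonoidHom.mk' (fun x => x ^ p) fun a b => add_pow_char a b p) (fun a b => mul_pow a b p) (-c)
      replace hr : r ^ p - r = -c := hr
      have hfix : F (v + r • e) = v + r • e := by
        rw [← sub_eq_zero, map_add, hF, he, add_sub_add_comm, ← sub_smul, hr, neg_smul, hc, add_neg_cancel]
      refine ⟨⟨v + r • e, mem_fixed.mpr hfix⟩, Subtype.ext ?_⟩
      exact (Submodule.Quotient.eq W).mpr (by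
        simpa using Submodule.smul_mem W r (Submodule.mem_span_singleton_self e))
    let T := {c : k // c ^ p = c}
    let ψ : T → φ.ker := fun c => ⟨⟨c.1 • e, mem_fixed.mpr (by rw [hF, he, c.2])⟩,
      Subtype.ext ((Submodule.Quotient.mk_eq_zero W).mpr
        (Submodule.smul_mem _ _ (Submodule.mem_span_singleton_self e)))⟩
    have hψ : Function.Bijective ψ := by
      refine ⟨fun a b hab => Subtype.ext (smul_left_injective k he0 ?_), fun x => ?_⟩
      · exact congrArg (fun t : φ.ker => t.1.1) hab
      · obtain ⟨c, hc⟩ := Submodule.mem_span_singleton.mp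
          ((Submodule.Quotient.mk_eq_zero W).mp (congrArg Subtype.val x.2))
        have h1 := mem_fixed.mp x.1.2
        replace hc : c • e = x.1.1 := hc
        rw [← hc, hF, he] at h1
        exact ⟨⟨c, smul_left_injective k he0 h1⟩, Subtype.ext (Subtype.ext hc)⟩
    have hT : Nat.card T = p := by
      classical
      have hne : (Polynomial.X ^ p - Polynomial.X : Polynomial k) ≠ 0 := Xp_ne k hp.one_lt
      have hsep : (Polynomial.X ^ p - Polynomial.X : Polynomial k).Separable := by
        rw [Polynomial.Separable]
        simp only [Polynomial.derivative_sub, Polynomial.derivative_pow, Polynomial.derivative_X,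
          CharP.cast_eq_zero, Polynomial.C_0, zero_mul, zero_sub]
        exact isCoprime_one_right.neg_right
      let s := (Polynomial.X ^ p - Polynomial.X : Polynomial k).roots.toFinset
      have e : T ≃ s := Equiv.subtypeEquivRight fun c => by
        simp [s, Polynomial.mem_roots hne, sub_eq_zero]
      rw [Nat.card_congr e, Nat.card_eq_fintype_card, Fintype.card_coe,
        Multiset.toFinset_card_of_nodup (Polynomial.nodup_roots hsep),
        IsAlgClosed.card_roots_eq_natDegree, FiniteField.X_pow_card_sub_X_natDegree_eq k hp.one_lt]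
    have efix : Nat.card {v : V // F v = v} = Nat.card (fixed F) :=
      Nat.card_congr (Equiv.subtypeEquivRight fun v => mem_fixed.symm)
    rw [efix, AddSubgroup.card_eq_card_quotient_mul_card_addSubgroup φ.ker,
      Nat.card_congr (QuotientAddGroup.quotientKerEquivOfSurjective φ hsurj).toEquiv,
      ← Nat.card_congr (Equiv.ofBijective ψ hψ), hT,
      ← Nat.card_congr (Equiv.subtypeEquivRight fun v => (mem_fixed (F := G) (v := v)).symm), hcard,
      ← pow_succ, hQ]

section Sol

variable {n : ℕ} (p : ℕ)

/-- Solutions of the Artin-Schreier type system. -/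
def Sol {R : Type u} [CommRing R] (A : Matrix (Fin n) (Fin n) R) (c : Fin n → R) : Type u :=
  {x : Fin n → R // ∀ i, ∑ j, A i j * x j ^ p = x i + c i}

def Sol.map {R S : Type u} [CommRing R] [CommRing S] (φ : R →+* S) {A : Matrix (Fin n) (Fin n) R}
    {c : Fin n → R} (x : Sol p A c) : Sol p (A.map φ) (φ ∘ c) :=
  ⟨φ ∘ x.1, fun i => by simpa [map_sum, map_mul, map_pow] using congrArg φ (x.2 i)⟩

variable {R : Type u} [CommRing R] (A : Matrix (Fin n) (Fin n) R) (c : Fin n → R)

noncomputable def rel (i : Fin n) : MvPolynomial (Fin n) R :=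
  ∑ j, C (A i j) * X j ^ p - X i - C (c i)

abbrev Alg : Type u := MvPolynomial (Fin n) R ⧸ Ideal.span (Set.range (rel p A c))

theorem aeval_rel {S : Type u} [CommRing S] [Algebra R S] (x : Fin n → S) (i : Fin n) :
    aeval x (rel p A c i) = ∑ j, algebraMap R S (A i j) * x j ^ p - x i - algebraMap R S (c i) := by
  simp [rel, map_sum]

theorem pderiv_rel [CharP R p] (i k : Fin n) :
    pderiv k (rel p A c i) = if i = k then -1 else 0 := by
  classical
  simp only [rel, map_sub, map_sum, Derivation.leibniz, Derivation.leibniz_pow, pderiv_C, pderiv_X,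
    smul_zero, add_zero, nsmul_eq_mul, CharP.cast_eq_zero, zero_mul, sub_zero, smul_eq_mul, mul_zero,
    Finset.sum_const_zero, zero_sub]
  split_ifs with h
  · subst h; simp
  · simp [Pi.single_eq_of_ne h]

theorem etale_alg [CharP R p] : Algebra.Etale R (Alg p A c) := by
  classical
  let Q := Algebra.PreSubmersivePresentation.naive (R := R) (v := rel p A c) id Function.injective_id
    (Function.surjInv Ideal.Quotient.mk_surjective)
  have hJ : IsUnit Q.jacobian := by
    rw [Algebra.PreSubmersivePresentation.jacobian_eq_jacobiMatrix_det]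
    have : Q.jacobiMatrix = -1 := by
      ext i j
      simp only [Q, Algebra.PreSubmersivePresentation.jacobiMatrix_naive, id_eq, pderiv_rel,
        Matrix.neg_apply, Matrix.one_apply]
      by_cases h : i = j <;> simp [h, Ne.symm]
    rw [this, Matrix.det_neg, Matrix.det_one, mul_one, map_pow]
    exact (isUnit_one.neg.map _).pow _
  let P : Algebra.SubmersivePresentation R (Alg p A c) (Fin n) (Fin n) := { Q with jacobian_isUnit := hJ }
  have : Algebra.IsStandardSmoothOfRelativeDimension 0 R (Alg p A c) :=
    P.isStandardSmoothOfRelativeDimension (by simp [Algebra.Presentation.dimension])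
  infer_instance

/-- The point of a solution. -/
noncomputable def point {S : Type u} [CommRing S] [Algebra R S] (x : Fin n → S)
    (h : ∀ i, ∑ j, algebraMap R S (A i j) * x j ^ p = x i + algebraMap R S (c i)) : Alg p A c →ₐ[R] S :=
  Ideal.Quotient.liftₐ _ (aeval x) fun z hz => by
    have hle : Ideal.span (Set.range (rel p A c)) ≤ RingHom.ker (aeval (R := R) x).toRingHom := by
      rw [Ideal.span_le]
      rintro _ ⟨i, rfl⟩
      show aeval x (rel p A c i) = 0
      rw [aeval_rel, h i]; ring
    exact hle hz

theorem point_X {S : Type u} [CommRing S] [Algebra R S] (x : Fin n → S) (h) (i : Fin n) :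
    point p A c (S := S) x h (Ideal.Quotient.mk _ (X i)) = x i :=
  aeval_X x i

theorem algHom_eq {S : Type u} [CommRing S] [Algebra R S] (f g : Alg p A c →ₐ[R] S)
    (h : ∀ i, f (Ideal.Quotient.mk _ (X i)) = g (Ideal.Quotient.mk _ (X i))) : f = g :=
  Ideal.Quotient.algHom_ext R (MvPolynomial.algHom_ext h)

theorem algHom_spec {S : Type u} [CommRing S] [Algebra R S] (f : Alg p A c →ₐ[R] S) (i : Fin n) :
    ∑ j, algebraMap R S (A i j) * f (Ideal.Quotient.mk _ (X j)) ^ p =
      f (Ideal.Quotient.mk _ (X i)) + algebraMap R S (c i) := by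
  have h : f.comp (Ideal.Quotient.mkₐ R _) = aeval fun j => f (Ideal.Quotient.mk _ (X j)) :=
    MvPolynomial.algHom_ext fun j => by simp
  have h1 := AlgHom.congr_fun h (rel p A c i)
  rw [aeval_rel, AlgHom.comp_apply, Ideal.Quotient.mkₐ_eq_mk,
    Ideal.Quotient.eq_zero_iff_mem.mpr (Ideal.subset_span (Set.mem_range_self i)), map_zero] at h1
  linear_combination h1.symm

theorem bijective_map_residue [CharP R p] [HenselianLocalRing R] :
    Function.Bijective (Sol.map p (IsLocalRing.residue R) (A := A) (c := c)) := by
  have := etale_alg p A c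
  have key := fun σ => Groth.L05.existsUnique_algHom_lift_etale (R := R) (IsLocalRing.maximalIdeal R)
    (S := Alg p A c) σ
  constructor
  · intro x y hxy
    obtain ⟨τ, -, hu⟩ := key ((Ideal.Quotient.mkₐ R _).comp (point p A c x.1 x.2))
    have hxy' := congrArg Subtype.val hxy
    have h := (hu (point p A c x.1 x.2) rfl).trans
      (hu (point p A c y.1 y.2) (algHom_eq p A c _ _ fun i => by
        simp only [AlgHom.comp_apply, point_X, Ideal.Quotient.mkₐ_eq_mk]
        exact (congrFun hxy' i).symm)).symm
    exact Subtype.ext (funext fun i => by simpa [point_X] using AlgHom.congr_fun h (Ideal.Quotient.mk _ (X i)))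
  · intro z
    obtain ⟨τ, hτ, -⟩ := key (point p A c (S := R ⧸ IsLocalRing.maximalIdeal R) z.1 z.2)
    refine ⟨⟨fun i => τ (Ideal.Quotient.mk _ (X i)), algHom_spec p A c τ⟩, Subtype.ext (funext fun i => ?_)⟩
    have := AlgHom.congr_fun hτ (Ideal.Quotient.mk _ (X i))
    rw [AlgHom.comp_apply, point_X] at this
    exact this

theorem bijective_map_of_sepClosed {k K : Type u} [Field k] [IsSepClosed k] [Field K] [Algebra k K]
    [CharP k p] (A : Matrix (Fin n) (Fin n) k) (c : Fin n → k) :
    Function.Bijective (Sol.map p (algebraMap k K) (A := A) (c := c)) := by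
  refine ⟨fun x y h => Subtype.ext (funext fun i =>
    (algebraMap k K).injective (congrFun (congrArg Subtype.val h) i)), fun z => ?_⟩
  have := etale_alg p A c
  choose y hy using fun i => Groth.L05.exists_point_of_isSepClosed (point p A c z.1 z.2)
    (Ideal.Quotient.mk _ (X i))
  simp only [point_X] at hy
  refine ⟨⟨y, fun i => (algebraMap k K).injective ?_⟩, Subtype.ext (funext hy)⟩
  simp only [map_sum, map_mul, map_pow, map_add, hy]
  exact z.2 i

theorem sol_algClosed {K : Type u} [Field K] [IsAlgClosed K] [Fact p.Prime] [CharP K p]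
    (A : Matrix (Fin n) (Fin n) K) (hA : A.det ≠ 0) (c : Fin n → K) :
    Nonempty (Sol p A c) ∧ Nat.card (Sol p A c) = p ^ n := by
  have hp := (Fact.out : p.Prime)
  let F : (Fin n → K) →+ (Fin n → K) := AddMonoidHom.mk' (fun x => A.mulVec (fun j => x j ^ p))
    fun x y => by
      rw [← Matrix.mulVec_add]
      exact congrArg _ (funext fun j => add_pow_char (x j) (y j) p)
  have hF : ∀ (a : K) (x : Fin n → K), F (a • x) = a ^ p • F x := fun a x => by
    show A.mulVec _ = _ • A.mulVec _
    rw [← Matrix.mulVec_smul]
    exact congrArg _ (funext fun j => mul_pow a (x j) p)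
  have hFa : ∀ x i, F x i = ∑ j, A i j * x j ^ p := fun x i => rfl
  have hinj : Function.Injective F := fun x y h => by
    have := Matrix.mulVec_injective_iff_isUnit.mpr ((Matrix.isUnit_iff_isUnit_det A).mpr (Ne.isUnit hA)) h
    exact funext fun j => frobenius_inj K p (congrFun this j)
  have hcard := card_fixed_algClosed p n (Fin n → K) (Module.finrank_fin_fun K) F hF hinj
  obtain ⟨x₀, hx₀⟩ := Groth.L27.Frobenius.surjective p F hF c
  replace hx₀ : F x₀ = x₀ + c := by rw [← hx₀]; simp
  refine ⟨⟨⟨x₀, fun i => by rw [← hFa, hx₀]; rfl⟩⟩, ?_⟩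
  rw [← hcard]
  refine Nat.card_congr (Equiv.subtypeEquiv (Equiv.subRight x₀) fun x => ?_)
  show (∀ i, _ = _) ↔ F (x - x₀) = x - x₀
  simp only [map_sub, hx₀, funext_iff, Pi.sub_apply, Pi.add_apply, ← hFa]
  refine forall_congr' fun i => ⟨fun h => by rw [h]; ring, fun h => by linear_combination h⟩

theorem sol_strictHenselian [Fact p.Prime] [CharP R p] [HenselianLocalRing R]
    [IsSepClosed (IsLocalRing.ResidueField R)] (hA : IsUnit A.det) :
    Nonempty (Sol p A c) ∧ Nat.card (Sol p A c) = p ^ n := by
  let κ := IsLocalRing.ResidueField R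
  let K := AlgebraicClosure κ
  haveI : CharP κ p := (CharP.charP_iff_prime_eq_zero (Fact.out : p.Prime)).mpr (by
    rw [← map_natCast (IsLocalRing.residue R), CharP.cast_eq_zero, map_zero])
  haveI : CharP K p := charP_of_injective_algebraMap (algebraMap κ K).injective p
  let e := (Equiv.ofBijective _ (bijective_map_residue p A c)).trans
    (Equiv.ofBijective _ (bijective_map_of_sepClosed p (K := K) (A.map (IsLocalRing.residue R))
      (IsLocalRing.residue R ∘ c)))
  obtain ⟨hne, hc⟩ := sol_algClosed p ((A.map (IsLocalRing.residue R)).map (algebraMap κ K))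
    (by
      rw [show ((A.map (IsLocalRing.residue R)).map (algebraMap κ K)).det =
        algebraMap κ K (IsLocalRing.residue R A.det) by
          rw [RingHom.map_det, RingHom.map_det]; rfl]
      exact (hA.map ((algebraMap κ K).comp (IsLocalRing.residue R))).ne_zero)
    (algebraMap κ K ∘ IsLocalRing.residue R ∘ c)
  exact ⟨hne.map e.symm, (Nat.card_congr e).trans hc⟩

end Sol

theorem lang (p : ℕ) [Fact p.Prime] {R : Type u} [CommRing R]
    [HenselianLocalRing R] [IsSepClosed (IsLocalRing.ResidueField R)] [CharP R p]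
    {M : Type v} [AddCommGroup M] [Module R M] [Module.Free R M] [Module.Finite R M]
    (T : M →+ M) (hT : ∀ (r : R) (m : M), T (r • m) = r ^ p • T m)
    (hspan : Submodule.span R (Set.range T) = ⊤) :
    Function.Surjective (fun m => T m - m) ∧
      Nat.card {m : M // T m = m} = p ^ Module.finrank R M := by
  classical
  let b := Module.finBasis R M
  let A : Matrix (Fin (Module.finrank R M)) (Fin (Module.finrank R M)) R :=
    Matrix.of fun i j => b.repr (T (b j)) i
  have hTx : ∀ x : Fin (Module.finrank R M) → R,
      T (b.equivFun.symm x) = b.equivFun.symm (fun i => ∑ j, A i j * x j ^ p) := by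
    intro x
    simp only [Module.Basis.equivFun_symm_apply, map_sum, hT, Finset.sum_smul]
    rw [Finset.sum_comm]
    refine Finset.sum_congr rfl fun j _ => ?_
    conv_lhs => rw [← b.sum_repr (T (b j)), Finset.smul_sum]
    refine Finset.sum_congr rfl fun i _ => ?_
    rw [smul_smul, mul_comm]; rfl
  have hA : IsUnit A.det := by
    let L := Matrix.toLin b b A
    have hL : ∀ j, L (b j) = T (b j) := fun j => by
      simp only [L, Matrix.toLin_self, A, Matrix.of_apply, b.sum_repr]
    have hs : Function.Surjective L := by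
      rw [← LinearMap.range_eq_top, eq_top_iff, ← hspan, Submodule.span_le]
      rintro _ ⟨m, rfl⟩
      rw [← b.sum_repr m, map_sum]
      refine Submodule.sum_mem _ fun j _ => ?_
      rw [hT, ← hL]
      exact Submodule.smul_mem _ _ ⟨b j, rfl⟩
    have hu : IsUnit L :=
      (Module.End.isUnit_iff L).mpr ⟨OrzechProperty.injective_of_surjective_endomorphism L hs, hs⟩
    have hu' : IsUnit A := by
      have := hu.map (LinearMap.toMatrixAlgEquiv b).toAlgHom
      simpa [L, LinearMap.toMatrixAlgEquiv, LinearMap.toMatrix_toLin] using this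
    exact (Matrix.isUnit_iff_isUnit_det A).mp hu'
  have key : ∀ (c : Fin (Module.finrank R M) → R) (x : Fin (Module.finrank R M) → R),
      T (b.equivFun.symm x) = b.equivFun.symm x + b.equivFun.symm c ↔
        ∀ i, ∑ j, A i j * x j ^ p = x i + c i := fun c x => by
    rw [hTx, ← map_add, b.equivFun.symm.injective.eq_iff, funext_iff]; rfl
  constructor
  · intro m
    obtain ⟨⟨x, hx⟩⟩ := (sol_strictHenselian p A (b.equivFun m) hA).1
    refine ⟨b.equivFun.symm x, ?_⟩
    show T _ - _ = m
    rw [(key _ x).mpr hx, LinearEquiv.symm_apply_apply, add_sub_cancel_left]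
  · rw [← (sol_strictHenselian p A 0 hA).2]
    refine Nat.card_congr ((Equiv.subtypeEquiv b.equivFun.toEquiv fun m => ?_))
    have := key 0 (b.equivFun m)
    simpa using this

theorem injective_of_span {k : Type u} [Field k] {V : Type v} [AddCommGroup V] [Module k V]
    [FiniteDimensional k V] {p : ℕ} (T : V →+ V)
    (hT : ∀ (r : k) (m : V), T (r • m) = r ^ p • T m) (hspan : Submodule.span k (Set.range T) = ⊤) :
    Function.Injective T := by
  let b := Module.finBasis k V
  have hs : ⊤ ≤ Submodule.span k (Set.range fun j => T (b j)) := by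
    rw [← hspan, Submodule.span_le]
    rintro _ ⟨m, rfl⟩
    rw [← b.sum_repr m, map_sum]
    refine Submodule.sum_mem _ fun j _ => ?_
    rw [hT]
    exact Submodule.smul_mem _ _ (Submodule.subset_span ⟨j, rfl⟩)
  have hli := linearIndependent_of_top_le_span_of_card_eq_finrank hs (by simp)
  rw [injective_iff_map_eq_zero]
  intro m hm
  rw [← b.sum_repr m, map_sum] at hm
  simp only [hT] at hm
  rw [← b.sum_repr m]
  refine Finset.sum_eq_zero fun j _ => ?_
  rw [eq_zero_of_pow_eq_zero (Fintype.linearIndependent_iff.mp hli _ hm j), zero_smul]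

open IsLocalRing in
theorem smul_eq_zero_of_bijective (p : ℕ) [Fact p.Prime] {R : Type u} [CommRing R]
    [IsLocalRing R] [IsNoetherianRing R]
    {M : Type v} [AddCommGroup M] [Module R M] [Module.Finite R M]
    (T : M →+ M) (hT : ∀ (r : R) (m : M), T (r • m) = r ^ p • T m) (hsurj : Function.Surjective T) :
    (maximalIdeal R) • (⊤ : Submodule R M) = ⊥ := by
  classical
  let 𝔪 := maximalIdeal R
  let N : Submodule R M := 𝔪 • ⊤
  have hNT : ∀ x ∈ N, T x ∈ 𝔪 • N := fun x hx => by
    refine Submodule.smul_induction_on hx (fun r hr m _ => ?_) (fun a b ha hb => ?_)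
    · rw [hT, ← Nat.sub_add_cancel (Fact.out : p.Prime).two_le, pow_add, sq, ← mul_assoc, mul_smul]
      exact Submodule.smul_mem_smul (Ideal.mul_mem_left _ _ hr)
        (Submodule.smul_mem_smul hr Submodule.mem_top)
    · rw [map_add]; exact add_mem ha hb
  have hNT' : ∀ x ∈ N, T x ∈ N := fun x hx => Submodule.smul_le_right (hNT x hx)
  let Tb : M ⧸ N →+ M ⧸ N := QuotientAddGroup.map N.toAddSubgroup N.toAddSubgroup T hNT'
  have hTb : ∀ m : M, Tb (Submodule.Quotient.mk m) = Submodule.Quotient.mk (T m) := fun m => rfl
  letI : Module (ResidueField R) (M ⧸ N) := (inferInstance : Module (R ⧸ 𝔪) (M ⧸ 𝔪 • (⊤ : Submodule R M)))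
  haveI : IsScalarTower R (ResidueField R) (M ⧸ N) :=
    (inferInstance : IsScalarTower R (R ⧸ 𝔪) (M ⧸ 𝔪 • (⊤ : Submodule R M)))
  haveI : Module.Finite (ResidueField R) (M ⧸ N) := Module.Finite.of_restrictScalars_finite R _ _
  have hinj : Function.Injective Tb := by
    refine injective_of_span (k := ResidueField R) (p := p) Tb (fun r z => ?_) ?_
    · obtain ⟨r, rfl⟩ := residue_surjective r
      obtain ⟨m, rfl⟩ := Submodule.Quotient.mk_surjective N z
      have e1 : ∀ (s : R) (y : M ⧸ N), residue R s • y = s • y := fun s y => algebraMap_smul (ResidueField R) s y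
      rw [e1, ← map_pow, e1, ← Submodule.Quotient.mk_smul, hTb, hT, hTb, Submodule.Quotient.mk_smul]
    · have : Set.range Tb = Set.univ := Set.range_eq_univ.mpr fun z => by
        obtain ⟨m, rfl⟩ := Submodule.Quotient.mk_surjective N z
        obtain ⟨y, rfl⟩ := hsurj m
        exact ⟨_, hTb y⟩
      rw [this, Submodule.span_univ]
  have hle : N ≤ 𝔪 • N := fun x hx => by
    obtain ⟨y, rfl⟩ := hsurj x
    refine hNT y ((Submodule.Quotient.mk_eq_zero N).mp (hinj ?_))
    rw [hTb, map_zero]; exact (Submodule.Quotient.mk_eq_zero N).mpr hx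
  exact Submodule.eq_bot_of_le_smul_of_le_jacobson_bot 𝔪 N (IsNoetherian.noetherian N) hle
    (maximalIdeal_le_jacobson ⊥)

end Groth.L14.FrobMod
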